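/-
Coset enumeration data, found by a computer search; checked by `decide +kernel`.
-/
import Cfsg.Agent.Lib.Spor.TC.Check
import Cfsg.Agent.Lib.Spor.JThreeUnique.Bound.Part0
import Cfsg.Agent.Lib.Spor.JThreeUnique.Bound.Part1
import Cfsg.Agent.Lib.Spor.JThreeUnique.Bound.Part2
import Cfsg.Agent.Lib.Spor.JThreeUnique.Bound.Part3
import Cfsg.Agent.Lib.Spor.JThreeUnique.Bound.Part4
import Cfsg.Agent.Lib.Spor.JThreeUnique.Bound.Part5
import Cfsg.Agent.Lib.Spor.JThreeUnique.Bound.Part6
import Cfsg.Agent.Lib.Spor.JThreeUnique.Bound.Part7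
import Cfsg.Agent.Lib.Spor.JThreeUnique.Bound.Part8
import Cfsg.Agent.Lib.Spor.JThreeUnique.Bound.Part9
import Cfsg.Agent.Lib.Spor.JThreeUnique.Bound.Part10
import Cfsg.Agent.Lib.Spor.JThreeUnique.Bound.Part11
import Cfsg.Agent.Lib.Spor.JThreeUnique.Bound.Part12
import Cfsg.Agent.Lib.Spor.JThreeUnique.Bound.Part13
import Cfsg.Agent.Lib.Spor.JThreeUnique.Bound.Part14
import Cfsg.Agent.Lib.Spor.JThreeUnique.Bound.Part15
import Cfsg.Agent.Lib.Spor.JThreeUnique.Bound.Part16
import Cfsg.Agent.Lib.Spor.JThreeUnique.Bound.Part17
import Cfsg.Agent.Lib.Spor.JThreeUnique.Bound.Part18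
import Cfsg.Agent.Lib.Spor.JThreeUnique.Bound.Part19
import Cfsg.Agent.Lib.Spor.JThreeUnique.Bound.Part20
import Cfsg.Agent.Lib.Spor.JThreeUnique.Bound.Part21
import Cfsg.Agent.Lib.Spor.JThreeUnique.Bound.Part22
import Cfsg.Agent.Lib.Spor.JThreeUnique.Bound.Part23
import Cfsg.Agent.Lib.Spor.JThreeUnique.Bound.Part24

namespace CfsgLib.Spor.JThreeUnique.Bound

open CfsgLib.Spor.TC

theorem steps_ok : cert.StepsOK 0 134219 :=
  ((((((((((((((((((((((((((((((((((((((steps0.append _ steps3500).append _ steps7000).append _ steps10500).append _ steps14000).append _ steps17500).append _ steps21000).append _ steps24500).append _ steps28000).append _ steps31500).append _ steps35000).append _ steps38500).append _ steps42000).append _ steps45500).append _ steps49000).append _ steps52500).append _ steps56000).append _ steps59500).append _ steps63000).append _ steps66500).append _ steps70000).append _ steps73500).append _ steps77000).append _ steps80500).append _ steps84000).append _ steps87500).append _ steps91000).append _ steps94500).append _ steps98000).append _ steps101500).append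 _ steps105000).append _ steps108500).append _ steps112000).append _ steps115500).append _ steps119000).append _ steps122500).append _ steps126000).append _ steps129500).append _ steps133000)

theorem rows_ok : cert.RowsOK 134219 18468 0 18468 :=
  (((((((((rows0.append _ rows2000).append _ rows4000).append _ rows6000).append _ rows8000).append _ rows10000).append _ rows12000).append _ rows14000).append _ rows16000).append _ rows18000)

theorem row_zero : cert.rowNode 0 = 0 := by decide +kernel

theorem index_bound {G : Type*} [Group G] (g : ℕ → G) (hg : ∀ x, g x * g x = 1) (hk : g 6 = 1)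
    (hgen : Subgroup.closure (g '' Set.Iio 6) = ⊤) (hrels : ∀ r ∈ baseRels, ev g r = 1) (H : Subgroup G)
    (hsubs : ∀ r ∈ subs, ev g r ∈ H) : H.index ≠ 0 ∧ H.index ≤ 18468 :=
  cert.index_le steps_ok rows_ok row_zero (by decide) g hg hk hgen (ev_covered hg covered hrels) H hsubs

end CfsgLib.Spor.JThreeUnique.Bound
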